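import Cfsg.Agent.Lib.Helper41.CS3.GoodDefs

/-!
# CS3 (S4284), part [GOOD], package [AT]

In `C(a) = A × T` (`Conf`), an `r`-element of `C(a)` with `r ≠ t` lies in `A`, hence is central
in `C(a)`.
-/

set_option autoImplicit false

namespace Cfsg.Agent.Lib.Helper45.CS3

open Cfsg.Agent.Lib.Helper41.CS3

universe u

/-- [AT]. -/
theorem pkgAt : PkgAt.{u} := by
  intro G _ _ n t a A T hC r u hr hrt hu huC
  have ht : t.Prime := hC.tp
  have hfact : Fact t.Prime := ⟨ht⟩
  have hcomm : ∀ (x : A) (z : T), Commute (A.subtype x) (T.subtype z) :=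
    fun x z => hC.a_t x x.2 z z.2
  have hrange : (MonoidHom.noncommCoprod A.subtype T.subtype hcomm).range = A ⊔ T := by
    rw [MonoidHom.noncommCoprod_range, Subgroup.range_subtype, Subgroup.range_subtype]
  have huAT : u ∈ A ⊔ T := by rw [hC.sup]; exact huC
  rw [← hrange] at huAT
  obtain ⟨⟨α, β⟩, hαβ⟩ := huAT
  have hu_eq : (α : G) * (β : G) = u := hαβ
  have hαβc : Commute (α : G) (β : G) := hcomm α β
  -- `β ^ |A| = u ^ |A|`
  have hα1 : (α : G) ^ Nat.card A = 1 := by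
    rw [← Subgroup.coe_pow, pow_card_eq_one', Subgroup.coe_one]
  have hpow : u ^ Nat.card A = (β : G) ^ Nat.card A := by
    rw [← hu_eq, hαβc.mul_pow, hα1, one_mul]
  obtain ⟨k, hk⟩ := hu
  obtain ⟨j, hj⟩ := IsPGroup.iff_orderOf.mp hC.pT β
  have hj' : orderOf (β : G) = t ^ j := by rw [Subgroup.orderOf_coe, hj]
  have hd1 : orderOf (u ^ Nat.card A) ∣ r ^ k := by rw [← hk]; exact orderOf_pow_dvd _
  have hd2 : orderOf (u ^ Nat.card A) ∣ t ^ j := by
    rw [hpow, ← hj']; exact orderOf_pow_dvd _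
  have hcop : (r ^ k).Coprime (t ^ j) :=
    Nat.Coprime.pow k j ((Nat.coprime_primes hr ht).mpr hrt)
  have hone : orderOf (u ^ Nat.card A) = 1 :=
    Nat.Coprime.eq_one_of_dvd (Nat.Coprime.coprime_dvd_left hd1 hcop) hd2
  have hβN : (β : G) ^ Nat.card A = 1 := by
    rw [← hpow]; exact orderOf_eq_one_iff.mp hone
  have hβd : t ^ j ∣ Nat.card A := by rw [← hj']; exact orderOf_dvd_of_pow_eq_one hβN
  have hβ1 : t ^ j = 1 :=
    Nat.Coprime.eq_one_of_dvd (Nat.Coprime.pow_left j hC.copA.symm) hβd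
  have hβ : (β : G) = 1 := by rw [← orderOf_eq_one_iff, hj', hβ1]
  have huA : u ∈ A := by
    rw [← hu_eq, hβ, mul_one]; exact α.2
  show Subgroup.centralizer ({a} : Set G) ≤ Subgroup.centralizer ({u} : Set G)
  have hsup : A ⊔ T = Subgroup.centralizer ({a} : Set G) := hC.sup
  rw [← hsup]
  apply sup_le
  · intro c hc
    rw [Subgroup.mem_centralizer_iff]
    intro x hx
    rw [Set.mem_singleton_iff] at hx
    rw [hx]
    exact hC.a_ab u huA c hc
  · intro c hc
    rw [Subgroup.mem_centralizer_iff]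
    intro x hx
    rw [Set.mem_singleton_iff] at hx
    rw [hx]
    exact hC.a_t u huA c hc

end Cfsg.Agent.Lib.Helper45.CS3
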