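import Cfsg.Agent.Lib.Helper41.CS3.GoodDefs

/-!
# CS3 (S4284), part [GOOD], package [G6C]

`s` prime, `s ∣ m`, `s ^ 2 ∤ m`, `i(a) = m`, `C(a)` abelian: some Sylow `s`-subgroup of `G`
normalizes `C(a)`.  Hypothesis taken: `PkgNC`.
-/

set_option autoImplicit false

namespace Cfsg.Agent.Lib.Helper45.CS3

open Cfsg.Agent.Lib.Helper41.CS3 Cfsg.Agent.Lib.Helper81.CS3

universe u

/-- The order of a Sylow `p`-subgroup when `|G| = p ^ k * c` with `c` prime to `p`. -/
theorem cs3_sylow_card {G : Type u} [Group G] [Finite G] {p : ℕ} (hp : p.Prime) (P : Sylow p G)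
    (k c : ℕ) (h : Nat.card G = p ^ k * c) (hc : c.Coprime p) :
    Nat.card (P : Subgroup G) = p ^ k := by
  have hfact : Fact p.Prime := ⟨hp⟩
  obtain ⟨t, ht⟩ := IsPGroup.iff_card.mp P.isPGroup'
  have hnd : ¬ p ∣ (P : Subgroup G).index := P.not_dvd_index
  have hci : ((P : Subgroup G).index).Coprime p :=
    ((Nat.Prime.coprime_iff_not_dvd hp).mpr hnd).symm
  have ht1 : t = k := by
    apply le_antisymm
    · have h1 : p ^ t ∣ p ^ k * c := by
        rw [← h, ← ht]; exact Subgroup.card_subgroup_dvd_card _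
      have h2 : p ^ t ∣ p ^ k := (Nat.Coprime.pow_left t hc.symm).dvd_of_dvd_mul_right h1
      exact (Nat.pow_dvd_pow_iff_le_right hp.one_lt).mp h2
    · have h1 : p ^ k ∣ p ^ t * (P : Subgroup G).index := by
        rw [← ht, Subgroup.card_mul_index, h]; exact dvd_mul_right _ _
      have h2 : p ^ k ∣ p ^ t := (Nat.Coprime.pow_left k hci.symm).dvd_of_dvd_mul_right h1
      exact (Nat.pow_dvd_pow_iff_le_right hp.one_lt).mp h2
  rw [ht, ht1]

/-- [G6C]. -/
theorem pkgG6c_of (hNC : PkgNC.{u}) : PkgG6c.{u} := by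
  intro G _ _ m n hyp s a hs hsm hixa hab hs2
  have hfact : Fact s.Prime := ⟨hs⟩
  have hm1 : 1 < m := hyp.2.1
  have hn1 : 1 < n := hyp.2.2.1
  have hrange := hyp.2.2.2.2
  obtain ⟨b, hbH, ⟨kb, hkb⟩, hbZ⟩ := hNC m n hyp s hs hsm a
  -- for a non-central `c ∈ C(a)`: `C(c) ≤ C(a)`
  have hkey : ∀ c ∈ Cn a, c ∉ Subgroup.center G → ∀ x : G, x * c = c * x → x ∈ Cn a := by
    intro c hc hcZ x hx
    have hle : Cn a ≤ Cn c := by
      intro h hh
      rw [Subgroup.mem_centralizer_iff]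
      intro w hw
      rw [Set.mem_singleton_iff] at hw
      rw [hw]
      exact hab c hc h hh
    have hmem : (Cn c).index ∈ ({1, m, m * n} : Set ℕ) := by rw [← hrange]; exact ⟨c, rfl⟩
    have hdvd : (Cn c).index ∣ m := by
      have h1 := Subgroup.index_dvd_of_le hle
      rwa [show (Cn a).index = m from hixa] at h1
    have hc1 : (Cn c).index ≠ 1 := by
      intro h1
      apply hcZ
      have htop : Subgroup.centralizer ({c} : Set G) = ⊤ := Subgroup.index_eq_one.mp h1
      rw [Subgroup.mem_center_iff]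
      intro g
      have hg : g ∈ Subgroup.centralizer ({c} : Set G) := htop ▸ Subgroup.mem_top g
      exact (Subgroup.mem_centralizer_iff.mp hg c rfl).symm
    have hcm : (Cn c).index = m := by
      rcases hmem with h | h | h
      · exact absurd h hc1
      · exact h
      · exfalso
        rw [h] at hdvd
        have h2 := Nat.le_of_dvd (by omega) hdvd
        nlinarith
    have hcard : Nat.card (Cn c) = Nat.card (Cn a) := by
      have e1 := Subgroup.card_mul_index (Cn c)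
      have e2 := Subgroup.card_mul_index (Cn a)
      rw [hcm] at e1
      rw [show (Cn a).index = m from hixa] at e2
      exact Nat.eq_of_mul_eq_mul_right (by omega) (e1.trans e2.symm)
    have heq : Cn a = Cn c := Subgroup.eq_of_le_of_card_ge hle (le_of_eq hcard)
    rw [heq, Subgroup.mem_centralizer_iff]
    intro w hw
    rw [Set.mem_singleton_iff] at hw
    rw [hw]; exact hx.symm
  -- a Sylow `s`-subgroup of `C(a)` containing `b`
  have hzp : IsPGroup s (Subgroup.zpowers (⟨b, hbH⟩ : Cn a)) := by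
    apply IsPGroup.of_card (n := kb)
    rw [Nat.card_zpowers, Subgroup.orderOf_mk, hkb]
  obtain ⟨P0', hP0'⟩ := hzp.exists_le_sylow
  have hb0 : (⟨b, hbH⟩ : Cn a) ∈ (P0' : Subgroup (Cn a)) := hP0' (Subgroup.mem_zpowers _)
  obtain ⟨P0, hP0⟩ : ∃ P0 : Subgroup G, P0 = (P0' : Subgroup (Cn a)).map (Cn a).subtype :=
    ⟨_, rfl⟩
  have hbP0 : b ∈ P0 := by rw [hP0]; exact ⟨⟨b, hbH⟩, hb0, rfl⟩
  have hP0H : P0 ≤ Cn a := by rw [hP0]; exact Subgroup.map_subtype_le _
  obtain ⟨e, he⟩ := IsPGroup.iff_card.mp P0'.isPGroup'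
  have hcardP0 : Nat.card P0 = s ^ e := by
    rw [hP0, Subgroup.card_map_of_injective (Subgroup.subtype_injective _), he]
  have hnd0 : ¬ s ∣ (P0' : Subgroup (Cn a)).index := P0'.not_dvd_index
  obtain ⟨m', hm'⟩ := hsm
  have hsm' : ¬ s ∣ m' := by
    rintro ⟨c, hc⟩
    apply hs2
    exact ⟨c, by rw [hm', hc]; ring⟩
  have hGc : Nat.card G = s ^ (e + 1) * ((P0' : Subgroup (Cn a)).index * m') := by
    have e1 := Subgroup.card_mul_index (Cn a)
    have e2 := Subgroup.card_mul_index (P0' : Subgroup (Cn a))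
    rw [show (Cn a).index = m from hixa] at e1
    rw [← e1, ← e2, he, hm', pow_succ]; ring
  have hcop : ((P0' : Subgroup (Cn a)).index * m').Coprime s :=
    Nat.Coprime.mul_left ((Nat.Prime.coprime_iff_not_dvd hs).mpr hnd0).symm
      ((Nat.Prime.coprime_iff_not_dvd hs).mpr hsm').symm
  have hP0p : IsPGroup s P0 := IsPGroup.of_card hcardP0
  obtain ⟨S, hSP⟩ := hP0p.exists_le_sylow
  have hcardS : Nat.card (S : Subgroup G) = s ^ (e + 1) := cs3_sylow_card hs S (e + 1) _ hGc hcop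
  -- `P0` has index `s` in `S`, hence is normal in `S`
  have hrel : P0.relIndex (S : Subgroup G) = s := by
    have h1 := Subgroup.relIndex_mul_relIndex ⊥ P0 (S : Subgroup G) bot_le hSP
    rw [Subgroup.relIndex_bot_left, Subgroup.relIndex_bot_left, hcardP0, hcardS, pow_succ] at h1
    exact Nat.eq_of_mul_eq_mul_left (pow_pos hs.pos e) h1
  have hnorm : (P0.subgroupOf (S : Subgroup G)).Normal := by
    apply Subgroup.normal_of_index_eq_minFac_card
    have h1 : (P0.subgroupOf (S : Subgroup G)).index = s := hrel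
    rw [h1, hcardS, Nat.Prime.pow_minFac hs (Nat.succ_ne_zero e)]
  refine ⟨S, ?_⟩
  intro σ hσ h hh
  have hconj := hnorm.conj_mem ⟨b, hSP hbP0⟩ (Subgroup.mem_subgroupOf.mpr hbP0) ⟨σ, hσ⟩
  have hcP0 : σ * b * σ⁻¹ ∈ P0 := Subgroup.mem_subgroupOf.mp hconj
  have hcH : σ * b * σ⁻¹ ∈ Cn a := hP0H hcP0
  have hcZ : σ * b * σ⁻¹ ∉ Subgroup.center G := by
    intro hc
    apply hbZ
    have h1 := (inferInstance : (Subgroup.center G).Normal).conj_mem _ hc σ⁻¹
    have e1 : σ⁻¹ * (σ * b * σ⁻¹) * σ⁻¹⁻¹ = b := by group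
    rwa [e1] at h1
  apply hkey _ hcH hcZ
  have hhb : h * b = b * h := hab h hh b hbH
  calc σ * h * σ⁻¹ * (σ * b * σ⁻¹) = σ * (h * b) * σ⁻¹ := by group
    _ = σ * (b * h) * σ⁻¹ := by rw [hhb]
    _ = σ * b * σ⁻¹ * (σ * h * σ⁻¹) := by group

end Cfsg.Agent.Lib.Helper45.CS3
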